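import Mathlib.FieldTheory.JacobsonNoether
import Mathlib.FieldTheory.Perfect
import Mathlib.FieldTheory.IsAlgClosed.AlgebraicClosure
import Mathlib.RingTheory.Unramified.Field
import Mathlib.RingTheory.Unramified.Finite
import Mathlib.RingTheory.Kaehler.Basic
import Mathlib.RingTheory.SimpleModule.WedderburnArtin
import Mathlib.RingTheory.Artinian.Module

/-!
# Maximal etale subalgebras of absolutely semisimple algebras
-/

set_option autoImplicit false
set_option maxHeartbeats 1600000

universe u v

open TensorProduct Polynomial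

namespace Groth.Agent.EtSub16

/-- Semisimple rings are von Neumann regular. -/
theorem exists_regular {R : Type*} [Ring R] [IsSemisimpleRing R] (u : R) : ∃ x : R, u * x * u = u := by
  obtain ⟨I, hI⟩ := exists_isCompl (Ideal.span ({u} : Set R) : Submodule R R)
  have h1 : (1 : R) ∈ (Ideal.span ({u} : Set R) : Submodule R R) ⊔ I := by rw [hI.sup_eq_top]; trivial
  obtain ⟨a, ha, b, hb, hab⟩ := Submodule.mem_sup.1 h1
  obtain ⟨x, rfl⟩ := Ideal.mem_span_singleton'.1 ha
  refine ⟨x, ?_⟩
  have h2 : u * b = u - u * x * u := by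
    rw [eq_sub_of_add_eq' hab, mul_sub, _root_.mul_one, _root_.mul_assoc]
  have h3 : u * b ∈ (Ideal.span ({u} : Set R) : Submodule R R) ⊓ I :=
    ⟨Ideal.mem_span_singleton'.2 ⟨1 - u * x, by rw [h2, sub_mul, _root_.one_mul]⟩, I.smul_mem u hb⟩
  rw [hI.inf_eq_bot, Submodule.mem_bot, h2, sub_eq_zero] at h3
  exact h3.symm

variable {k : Type u} [Field k]

/-- An element is separable if no polynomial in it over an algebraic closure is nonzero with zero square. -/
theorem isSeparable_of_sq {A : Type v} [Ring A] [Algebra k A] [FiniteDimensional k A] (x : A)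
    (h : ∀ q : (AlgebraicClosure k)[X],
      aeval ((1 : AlgebraicClosure k) ⊗ₜ[k] x) q * aeval ((1 : AlgebraicClosure k) ⊗ₜ[k] x) q = 0 →
        aeval ((1 : AlgebraicClosure k) ⊗ₜ[k] x) q = 0) :
    IsSeparable k x := by
  classical
  let K := AlgebraicClosure k
  let p := minpoly k x
  have hx : IsIntegral k x := IsIntegral.of_finite k x
  have hp : p.Monic := minpoly.monic hx
  show p.Separable
  rw [← Polynomial.separable_map (algebraMap k K), PerfectField.separable_iff_squarefree]
  intro g hg
  by_contra hgu
  obtain ⟨r, hr⟩ := hg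
  let y : K ⊗[k] A := (1 : K) ⊗ₜ x
  have h0 : aeval y (p.map (algebraMap k K)) = 0 := by
    rw [aeval_map_algebraMap]
    show aeval (Algebra.TensorProduct.includeRight (R := k) (A := K) x) p = 0
    rw [aeval_algHom_apply, minpoly.aeval, map_zero]
  have h1 : aeval y (g * r) = 0 := h _ (by
    rw [← map_mul, show g * r * (g * r) = p.map (algebraMap k K) * r by rw [hr]; ring, map_mul, h0, zero_mul])
  have hm : p.map (algebraMap k K) ≠ 0 := (hp.map _).ne_zero
  have hg0 : g ≠ 0 := by rintro rfl; exact hm (by rw [hr]; ring)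
  have hr0 : r ≠ 0 := by rintro rfl; exact hm (by rw [hr]; ring)
  have hgd : 0 < g.natDegree := Polynomial.natDegree_pos_iff_degree_pos.2
    (Polynomial.degree_pos_of_ne_zero_of_nonunit hg0 hgu)
  have hdeg : (g * r).natDegree < p.natDegree := by
    have e : p.natDegree = g.natDegree + (g * r).natDegree := by
      rw [← natDegree_map (algebraMap k K), hr, mul_assoc, natDegree_mul hg0 (mul_ne_zero hg0 hr0)]
    omega
  -- the powers of `x` below the degree stay independent
  have hli : LinearIndependent k (fun i : Fin p.natDegree => x ^ (i : ℕ)) := linearIndependent_pow x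
  let φ : A →ₗ[k] (Fin p.natDegree → k) :=
    (Finsupp.linearEquivFunOnFinite k k (Fin p.natDegree)).toLinearMap ∘ₗ
      (LinearMap.exists_leftInverse_of_injective _ (LinearMap.ker_eq_bot.2 hli)).choose
  have hφ : ∀ i : Fin p.natDegree, φ (x ^ (i : ℕ)) = Pi.single i 1 := fun i => by
    have hs := LinearMap.congr_fun
      (LinearMap.exists_leftInverse_of_injective _ (LinearMap.ker_eq_bot.2 hli)).choose_spec
      (Finsupp.single i 1)
    simp only [LinearMap.comp_apply, Finsupp.linearCombination_single, one_smul, LinearMap.id_apply] at hs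
    simp [φ, hs, Finsupp.single_eq_pi_single]
  refine mul_ne_zero hg0 hr0 (Polynomial.ext fun j => ?_)
  rw [coeff_zero]
  by_cases hj : j < p.natDegree
  swap
  · exact coeff_eq_zero_of_natDegree_lt (lt_of_lt_of_le hdeg (not_lt.1 hj))
  have h2 := congrArg ((TensorProduct.rid k K).toLinearMap ∘ₗ
    TensorProduct.map LinearMap.id ((LinearMap.proj (⟨j, hj⟩ : Fin p.natDegree)) ∘ₗ φ)) h1
  rw [map_zero, aeval_eq_sum_range' hdeg, map_sum] at h2
  rw [Finset.sum_eq_single j] at h2
  · simpa [Algebra.TensorProduct.tmul_pow, y, TensorProduct.smul_tmul', hφ ⟨j, hj⟩] using h2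
  · intro i hi hij
    have := hφ ⟨i, Finset.mem_range.1 hi⟩
    simp [Algebra.TensorProduct.tmul_pow, y, TensorProduct.smul_tmul', this, Fin.ext_iff, Ne.symm hij,
      Pi.single_apply]
  · intro hnot
    exact absurd (Finset.mem_range.2 hj) hnot

section Comm

variable {R : Type v} [CommRing R] [Algebra k R]

/-- A commutative algebra generated by separable elements is formally unramified. -/
theorem formallyUnramified_of_adjoin (s : Set R) (hs : Algebra.adjoin k s = ⊤) (h : ∀ x ∈ s, IsSeparable k x) :
    Algebra.FormallyUnramified k R := by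
  refine ⟨?_⟩
  let D := KaehlerDifferential.D k R
  have hD : ∀ x : R, D x = 0 := fun x => by
    have hx : x ∈ Algebra.adjoin k s := hs ▸ Algebra.mem_top
    induction hx using Algebra.adjoin_induction with
    | mem y hy =>
      have h1 : D (aeval y (minpoly k y)) = aeval y (derivative (minpoly k y)) • D y :=
        D.map_aeval _ _
      rw [minpoly.aeval, map_zero] at h1
      obtain ⟨a, b, hab⟩ := h y hy
      have h2 := congrArg (aeval y) hab
      rw [map_add, map_mul, map_mul, minpoly.aeval, mul_zero, zero_add, map_one] at h2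
      rw [← one_smul R (D y), ← h2, mul_smul, ← h1, smul_zero]
    | algebraMap r => exact D.map_algebraMap r
    | add a b _ _ ha hb => rw [map_add, ha, hb, add_zero]
    | mul a b _ _ ha hb => rw [Derivation.leibniz, ha, hb, smul_zero, smul_zero, add_zero]
  refine subsingleton_of_forall_eq 0 fun w => ?_
  have hw : w ∈ Submodule.span R (Set.range D) := by
    rw [KaehlerDifferential.span_range_derivation]; trivial
  exact Submodule.span_induction (p := fun z _ => z = 0) (by rintro _ ⟨x, rfl⟩; exact hD x) rfl
    (fun a b _ _ ha hb => by rw [ha, hb, add_zero]) (fun a b _ hb => by rw [hb, smul_zero]) hw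

/-- A finite commutative algebra generated by separable elements is separable. -/
theorem isSeparable_of_adjoin [FiniteDimensional k R] (s : Set R) (hs : Algebra.adjoin k s = ⊤)
    (h : ∀ x ∈ s, IsSeparable k x) (x : R) : IsSeparable k x := by
  haveI := formallyUnramified_of_adjoin s hs h
  haveI : IsReduced (AlgebraicClosure k ⊗[k] R) :=
    Algebra.FormallyUnramified.isReduced_of_field (AlgebraicClosure k) _
  exact isSeparable_of_sq x fun q hq => IsReduced.eq_zero _ ⟨2, by rw [sq]; exact hq⟩

end Comm

variable {A : Type v} [Ring A] [Algebra k A] [FiniteDimensional k A]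

theorem isSeparable_of_generators (L' : Subalgebra k A) (hc : ∀ x ∈ L', ∀ y ∈ L', x * y = y * x) (s : Set A)
    (hs : Algebra.adjoin k s = L') (h : ∀ x ∈ s, IsSeparable k x) : Algebra.IsSeparable k L' := by
  letI : CommRing L' := { (inferInstance : Ring L') with mul_comm := fun a b => Subtype.ext (hc _ a.2 _ b.2) }
  have hval : ∀ y : L', minpoly k (y : A) = minpoly k y := fun y =>
    minpoly.algHom_eq L'.val Subtype.val_injective y
  refine ⟨fun x => isSeparable_of_adjoin (L'.val ⁻¹' s) ?_ (fun y hy => ?_) x⟩
  · apply Subalgebra.map_injective (f := L'.val) Subtype.val_injective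
    rw [AlgHom.map_adjoin, Algebra.map_top, Subalgebra.range_val, Set.image_preimage_eq_of_subset, hs]
    intro y hy
    exact ⟨⟨y, hs ▸ Algebra.subset_adjoin hy⟩, rfl⟩
  · show (minpoly k y).Separable
    rw [← hval y]
    exact h _ hy

theorem mem_of_maximal (L : Subalgebra k A) (hc : ∀ x ∈ L, ∀ y ∈ L, x * y = y * x) [Algebra.IsSeparable k L]
    (hmax : ∀ L' : Subalgebra k A, (∀ x ∈ L', ∀ y ∈ L', x * y = y * x) → Algebra.IsSeparable k L' → L ≤ L' → L' = L)
    (x : A) (hx : ∀ l ∈ L, l * x = x * l) (hsep : IsSeparable k x) : x ∈ L := by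
  let s : Set A := insert x (L : Set A)
  have hs : ∀ a ∈ s, ∀ b ∈ s, a * b = b * a := by
    rintro a (rfl | ha) b (rfl | hb)
    exacts [rfl, (hx b hb).symm, hx a ha, hc a ha b hb]
  let L' := Algebra.adjoin k s
  have hc' : ∀ a ∈ L', ∀ b ∈ L', a * b = b * a := fun a ha b hb =>
    congrArg Subtype.val ((Algebra.adjoinCommRingOfComm k hs).mul_comm ⟨a, ha⟩ ⟨b, hb⟩)
  have hval : ∀ y : L, minpoly k (y : A) = minpoly k y := fun y =>
    minpoly.algHom_eq L.val Subtype.val_injective y
  have hsep' : Algebra.IsSeparable k L' := isSeparable_of_generators L' hc' s rfl (by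
    rintro a (rfl | ha)
    · exact hsep
    · show (minpoly k a).Separable
      rw [hval ⟨a, ha⟩]
      exact Algebra.IsSeparable.isSeparable k (⟨a, ha⟩ : L))
  rw [← hmax L' hc' hsep' fun a ha => Algebra.subset_adjoin (Set.mem_insert_of_mem x ha)]
  exact Algebra.subset_adjoin (Set.mem_insert x _)

/-- The averaging projection onto the centralizer of an etale subalgebra. -/
theorem exists_projection (L : Subalgebra k A) (hc : ∀ x ∈ L, ∀ y ∈ L, x * y = y * x) [Algebra.IsSeparable k L] :
    ∃ π : A →ₗ[k] A, π 1 = 1 ∧ (∀ a, π a ∈ Subalgebra.centralizer k (L : Set A)) ∧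
      (∀ c ∈ Subalgebra.centralizer k (L : Set A), ∀ a, π (c * a) = c * π a ∧ π (a * c) = π a * c) := by
  letI : CommRing L := { (inferInstance : Ring L) with mul_comm := fun a b => Subtype.ext (hc _ a.2 _ b.2) }
  haveI : Algebra.FormallyUnramified k L := formallyUnramified_of_adjoin Set.univ
    (eq_top_iff.2 fun x _ => Algebra.subset_adjoin (Set.mem_univ x)) fun x _ => Algebra.IsSeparable.isSeparable k x
  let Φ : L ⊗[k] L →ₗ[k] Module.End k A := TensorProduct.lift (LinearMap.mk₂ k
    (fun u v : L => LinearMap.mulLeft k (u : A) ∘ₗ LinearMap.mulRight k (v : A))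
    (fun u u' v => by ext a; simp [add_mul])
    (fun r u v => by ext a; simp)
    (fun u v v' => by ext a; simp [mul_add])
    (fun r u v => by ext a; simp))
  have hΦ : ∀ (u v : L) (a : A), Φ (u ⊗ₜ v) a = (u : A) * a * (v : A) := fun u v a => by
    simp [Φ, mul_assoc]
  let e := Algebra.FormallyUnramified.elem k L
  refine ⟨Φ e, ?_, fun a => ?_, fun c hc' a => ?_⟩
  · have h : ∀ t : L ⊗[k] L, Φ t 1 = ((Algebra.TensorProduct.lmul' k t : L) : A) := fun t => by
      induction t using TensorProduct.induction_on with
      | zero => simp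
      | tmul u v => simp [hΦ]
      | add p q hp hq => simp [hp, hq]
    rw [h, Algebra.FormallyUnramified.lmul_elem]
    rfl
  · rw [Subalgebra.mem_centralizer_iff]
    intro l hl
    have h1 : ∀ t : L ⊗[k] L, Φ (((⟨l, hl⟩ : L) ⊗ₜ 1) * t) a = l * Φ t a := fun t => by
      induction t using TensorProduct.induction_on with
      | zero => simp
      | tmul u v => simp [hΦ, mul_assoc]
      | add p q hp hq => simp [mul_add, hp, hq]
    have h2 : ∀ t : L ⊗[k] L, Φ ((1 ⊗ₜ (⟨l, hl⟩ : L)) * t) a = Φ t a * l := fun t => by
      induction t using TensorProduct.induction_on with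
      | zero => simp
      | tmul u v => simp [hΦ, mul_assoc, hc l hl v v.2]
      | add p q hp hq => simp [mul_add, add_mul, hp, hq]
    rw [← h1, ← h2, Algebra.FormallyUnramified.one_tmul_mul_elem]
  · rw [Subalgebra.mem_centralizer_iff] at hc'
    have h : ∀ t : L ⊗[k] L, Φ t (c * a) = c * Φ t a ∧ Φ t (a * c) = Φ t a * c := fun t => by
      induction t using TensorProduct.induction_on with
      | zero => simp
      | tmul u v =>
        refine ⟨?_, ?_⟩
        · rw [hΦ, hΦ, ← mul_assoc (u : A), hc' u u.2]; simp only [mul_assoc]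
        · rw [hΦ, hΦ, ← mul_assoc (u : A) a c, mul_assoc ((u : A) * a) c, mul_assoc ((u : A) * a) (v : A), hc' v v.2]
      | add p q hp hq => simp [hp.1, hp.2, hq.1, hq.2, mul_add, add_mul]
    exact h e

/-- Central elements of the centralizer of an etale subalgebra are separable. -/
theorem isSeparable_of_mem_center (hss : IsSemisimpleRing (AlgebraicClosure k ⊗[k] A)) {L : Subalgebra k A}
    (π : A →ₗ[k] A) (hπ1 : π 1 = 1) (hπC : ∀ a, π a ∈ Subalgebra.centralizer k (L : Set A))
    (hπm : ∀ c ∈ Subalgebra.centralizer k (L : Set A), ∀ a, π (c * a) = c * π a ∧ π (a * c) = π a * c)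
    {z : A} (hz : z ∈ Subalgebra.centralizer k (L : Set A))
    (hzc : ∀ c ∈ Subalgebra.centralizer k (L : Set A), z * c = c * z) : IsSeparable k z := by
  refine isSeparable_of_sq z fun q hq => ?_
  let K := AlgebraicClosure k
  let P : K ⊗[k] A →ₗ[K] K ⊗[k] A := π.baseChange K
  let y := aeval ((1 : K) ⊗ₜ[k] z) q
  have hy : y * y = 0 := hq
  have key : ∀ b : K ⊗[k] A, P (y * b) = y * P b ∧ P (b * y) = P b * y ∧ y * P b = P b * y := by
    show ∀ b, P (aeval ((1 : K) ⊗ₜ[k] z) q * b) = aeval ((1 : K) ⊗ₜ[k] z) q * P b ∧ _ ∧ _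
    clear hq hy
    induction q using Polynomial.induction_on with
    | C r =>
      intro b
      simp only [aeval_C, Algebra.algebraMap_eq_smul_one, smul_mul_assoc, mul_smul_comm, one_mul, mul_one, map_smul,
        and_self, y]
    | add p q hp hq =>
      intro b
      obtain ⟨a1, a2, a3⟩ := hp b
      obtain ⟨b1, b2, b3⟩ := hq b
      simp only [y] at *
      simp only [map_add, add_mul, mul_add, a1, a2, a3, b1, b2, b3, and_self]
    | monomial n r h =>
      intro b
      have hz' : ∀ b : K ⊗[k] A, P ((1 ⊗ₜ z) * b) = (1 ⊗ₜ z) * P b ∧ P (b * (1 ⊗ₜ z)) = P b * (1 ⊗ₜ z) ∧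
          ((1 : K) ⊗ₜ[k] z) * P b = P b * (1 ⊗ₜ z) := fun b => by
        induction b using TensorProduct.induction_on with
        | zero => simp
        | tmul l a => simp [P, (hπm z hz a).1, (hπm z hz a).2, hzc _ (hπC a)]
        | add p q hp hq => simp [mul_add, add_mul, hp.1, hp.2.1, hp.2.2, hq.1, hq.2.1, hq.2.2]
      simp only [y] at *
      rw [show C r * X ^ (n + 1) = (C r * X ^ n) * X by rw [pow_succ, mul_assoc], map_mul (aeval ((1 : AlgebraicClosure k) ⊗ₜ[k] z)) (C r * X ^ n) X, aeval_X]
      refine ⟨?_, ?_, ?_⟩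
      · rw [mul_assoc, (h _).1, (hz' b).1, ← mul_assoc]
      · rw [← mul_assoc, (hz' _).2.1, (h b).2.1, mul_assoc]
      · rw [mul_assoc, (hz' b).2.2, ← mul_assoc, (h b).2.2, mul_assoc]
  obtain ⟨x, hx⟩ := exists_regular y
  have hP1 : P 1 = 1 := by
    show π.baseChange K (1 ⊗ₜ[k] 1) = _
    rw [LinearMap.baseChange_tmul, hπ1]
    rfl
  have h1 : P y = y := by have := (key 1).1; rwa [mul_one, hP1, mul_one] at this
  calc y = P (y * x * y) := by rw [hx, h1]
    _ = (y * P x) * y := by rw [(key _).2.1, (key x).1]
    _ = 0 := by rw [(key x).2.2, mul_assoc, hy, mul_zero]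

theorem centralizer_eq (hss : IsSemisimpleRing (AlgebraicClosure k ⊗[k] A)) (L : Subalgebra k A)
    (hc : ∀ x ∈ L, ∀ y ∈ L, x * y = y * x) [Algebra.IsSeparable k L]
    (hmax : ∀ L' : Subalgebra k A, (∀ x ∈ L', ∀ y ∈ L', x * y = y * x) → Algebra.IsSeparable k L' → L ≤ L' → L' = L) :
    Subalgebra.centralizer k (L : Set A) = L := by
  classical
  obtain ⟨π, hπ1, hπC, hπm⟩ := exists_projection L hc
  let C := Subalgebra.centralizer k (L : Set A)
  have hLC : L ≤ C := fun l hl => (Subalgebra.mem_centralizer_iff k).2 fun g hg => hc g hg l hl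
  refine le_antisymm (fun c hc' => ?_) hLC
  have hmin : ∀ y : C, minpoly k (y : A) = minpoly k y := fun y =>
    minpoly.algHom_eq C.val Subtype.val_injective y
  have hcom : ∀ y : C, IsSeparable k y → ∀ b : C, y * b = b * y := fun y hy b => by
    have hsep : IsSeparable k (y : A) := by
      show (minpoly k (y : A)).Separable
      rw [hmin]; exact hy
    have hyL : (y : A) ∈ L := mem_of_maximal L hc hmax y (fun l hl => ((Subalgebra.mem_centralizer_iff k).1 y.2) l hl) hsep
    exact Subtype.ext (((Subalgebra.mem_centralizer_iff k).1 b.2) y hyL)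
  have hsepc : ∀ y : C, (∀ b : C, y * b = b * y) → IsSeparable k y := fun y hy => by
    have h := isSeparable_of_mem_center hss π hπ1 hπC hπm y.2 fun d hd => congrArg Subtype.val (hy ⟨d, hd⟩)
    show (minpoly k y).Separable
    rw [← hmin]; exact h
  -- the centralizer is semisimple
  haveI : IsArtinianRing C := IsArtinianRing.of_finite k C
  have hreg : ∀ u : C, ∃ x : C, u * x * u = u := fun u => by
    obtain ⟨x', hx'⟩ := exists_regular (R := AlgebraicClosure k ⊗[k] A) ((1 : AlgebraicClosure k) ⊗ₜ[k] (u : A))
    let b := Module.Basis.ofVectorSpace k (AlgebraicClosure k)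
    obtain ⟨a, ha⟩ : ∃ a : A, (u : A) * a * (u : A) = u := by
      obtain ⟨f, hf'⟩ := LinearMap.exists_leftInverse_of_injective (Algebra.linearMap k (AlgebraicClosure k))
        (LinearMap.ker_eq_bot.2 (algebraMap k (AlgebraicClosure k)).injective)
      have hf : f 1 = 1 := by
        have := LinearMap.congr_fun hf' 1
        simpa using this
      let T : AlgebraicClosure k ⊗[k] A →ₗ[k] A := (TensorProduct.lid k A).toLinearMap ∘ₗ f.rTensor A
      refine ⟨T x', ?_⟩
      have hT : ∀ w, T ((1 ⊗ₜ (u : A)) * w * (1 ⊗ₜ (u : A))) = (u : A) * T w * u := fun w => by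
        induction w using TensorProduct.induction_on with
        | zero => simp
        | tmul l a => simp [T]
        | add p q hp hq => simp [mul_add, add_mul, hp, hq]
      rw [← hT, hx']
      simp [T, hf]
    refine ⟨⟨π a, hπC a⟩, Subtype.ext ?_⟩
    show (u : A) * π a * u = u
    rw [← (hπm u u.2 a).1, ← (hπm u u.2 _).2, ha]
    simpa [hπ1] using (hπm u u.2 1).1
  haveI : IsSemisimpleRing C := by
    rw [IsArtinianRing.isSemisimpleRing_iff_jacobson]
    refine (Submodule.eq_bot_iff _).2 fun w hw => ?_
    obtain ⟨x, hx⟩ := hreg w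
    have hxw : x * w ∈ Ring.jacobson C := Ideal.mul_mem_left _ x hw
    rw [← Ideal.jacobson_bot] at hxw
    obtain ⟨t, ht⟩ := Ideal.mem_jacobson_iff.1 hxw (-1)
    have ht' : t * (1 - x * w) = 1 := by
      rw [Submodule.mem_bot, sub_eq_zero] at ht
      rw [mul_neg_one, neg_mul, neg_add_eq_sub] at ht
      rw [mul_sub, mul_one, ht]
    have h0 : (1 - x * w) * (x * w) = 0 := by
      rw [sub_mul, one_mul, sub_eq_zero, mul_assoc x w, ← mul_assoc w x w, hx]
    have hxw0 : x * w = 0 := by
      calc x * w = t * (1 - x * w) * (x * w) := by rw [ht', one_mul]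
        _ = 0 := by rw [mul_assoc, h0, mul_zero]
    rw [← hx, mul_assoc, hxw0, mul_zero]
  obtain ⟨n, D, d, hDr, hDa, hDf, hd, ⟨e⟩⟩ := IsSemisimpleRing.exists_algEquiv_pi_matrix_divisionRing_finite k C
  let Pr := ∀ i, Matrix (Fin (d i)) (Fin (d i)) (D i)
  have hcom' : ∀ y : Pr, IsSeparable k y → ∀ b, y * b = b * y := fun y hy b => e.symm.injective (by
    rw [map_mul, map_mul]
    refine hcom _ ?_ _
    show (minpoly k (e.symm y)).Separable
    rw [minpoly.algEquiv_eq]; exact hy)
  have hsepc' : ∀ y : Pr, (∀ b, y * b = b * y) → IsSeparable k y := fun y hy => by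
    show (minpoly k y).Separable
    rw [← minpoly.algEquiv_eq e.symm y]
    exact hsepc _ fun b => e.injective (by rw [map_mul, map_mul, e.apply_symm_apply]; exact hy _)
  let S := fun i => AlgHom.comp (Pi.evalAlgHom k (fun i => Matrix (Fin (d i)) (Fin (d i)) (D i)) i) (AlgHom.id k Pr)
  -- a separable element of a factor gives a separable element of the product
  have hlift : ∀ (i : Fin n) (M : Matrix (Fin (d i)) (Fin (d i)) (D i)) (p : k[X]),
      (p * X).Separable → aeval M (p * X) = 0 → ∀ M', M * M' = M' * M := by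
    intro i M p hp hM M'
    have hy : IsSeparable k (Pi.single i M : Pr) := by
      show (minpoly k (Pi.single i M : Pr)).Separable
      refine hp.of_dvd (minpoly.dvd k _ (funext fun j => ?_))
      have hev := (Polynomial.aeval_algHom_apply
        (Pi.evalAlgHom k (fun i => Matrix (Fin (d i)) (Fin (d i)) (D i)) j) (Pi.single i M : Pr) (p * X)).symm
      refine hev.trans ?_
      show aeval ((Pi.single i M : Pr) j) (p * X) = 0
      by_cases hj : j = i
      · subst hj; rw [Pi.single_eq_same, hM]
      · rw [Pi.single_eq_of_ne hj, map_mul, aeval_X, mul_zero]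
    have := congrFun (hcom' _ hy (Pi.single i M')) i
    rw [Pi.mul_apply, Pi.mul_apply, Pi.single_eq_same, Pi.single_eq_same] at this
    exact this
  have hidem : ∀ (i : Fin n) (M : Matrix (Fin (d i)) (Fin (d i)) (D i)), M * M = M → ∀ M', M * M' = M' * M := by
    intro i M hM
    refine hlift i M (X - Polynomial.C 1) ?_ ?_
    · refine (separable_X_sub_C).mul separable_X ?_
      exact ⟨-1, 1, by rw [map_one]; ring⟩
    · rw [map_mul, map_sub, aeval_X, map_one, map_one, sub_mul, one_mul, hM, sub_self]
  have hdiv : ∀ (i : Fin n) (a b : D i), a * b = b * a := by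
    intro i
    haveI : NeZero (d i) := hd i
    let sc : D i →ₐ[k] Matrix (Fin (d i)) (Fin (d i)) (D i) :=
      { Matrix.scalar (Fin (d i)) with
        commutes' := fun r => by
          ext a b
          simp [Matrix.algebraMap_matrix_apply, Matrix.scalar_apply, Matrix.diagonal_apply] }
    have hscinj : Function.Injective sc := fun a b h => Matrix.scalar_inj.1 h
    let K := Subalgebra.center k (D i)
    have hKc : ∀ a ∈ K, ∀ b ∈ K, a * b = b * a := fun a ha b _ => (Subalgebra.mem_center_iff.1 ha b).symm
    have hKsep : ∀ a ∈ K, IsSeparable k a := fun a ha => by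
      have h := hsepc' (Pi.single i (sc a)) fun b => funext fun j => by
        show (Pi.single i (sc a) : Pr) j * b j = b j * (Pi.single i (sc a) : Pr) j
        by_cases hj : j = i
        · subst hj
          rw [Pi.single_eq_same]
          exact (Matrix.scalar_commute a (fun r => (Subalgebra.mem_center_iff.1 ha r).symm) (b j)).eq
        · rw [Pi.single_eq_of_ne hj, zero_mul, mul_zero]
      show (minpoly k a).Separable
      refine (h : (minpoly k (Pi.single i (sc a) : Pr)).Separable).of_dvd (minpoly.dvd k a (hscinj ?_))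
      rw [map_zero, ← aeval_algHom_apply]
      have h1 := congrFun (minpoly.aeval k (Pi.single i (sc a) : Pr)) i
      have h2 := (Polynomial.aeval_algHom_apply
        (Pi.evalAlgHom k (fun i => Matrix (Fin (d i)) (Fin (d i)) (D i)) i) (Pi.single i (sc a) : Pr)
        (minpoly k (Pi.single i (sc a) : Pr))).trans h1
      simpa using h2
    by_contra hne
    push Not at hne
    obtain ⟨a, b, hab⟩ := hne
    haveI : Algebra.IsAlgebraic k (D i) := Algebra.IsAlgebraic.of_finite k (D i)
    haveI : Algebra.IsAlgebraic (Subring.center (D i)) (D i) := ⟨fun w => by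
      obtain ⟨p, hp0, hp⟩ := Algebra.IsAlgebraic.isAlgebraic (R := k) w
      let φ : k →+* Subring.center (D i) := (algebraMap k (D i)).codRestrict _ fun r =>
        Subring.mem_center_iff.2 fun g => (Algebra.commutes r g).symm
      refine ⟨p.map φ, (Polynomial.map_ne_zero_iff φ.injective).2 hp0, ?_⟩
      rw [aeval_def, eval₂_map]
      exact hp⟩
    obtain ⟨w, hw, hws⟩ := JacobsonNoether.exists_separable_and_not_isCentral (D i) (fun h => hab ((Subring.mem_center_iff.1
      (h ▸ Subring.mem_top a)) b).symm)
    -- the field generated by the centre and `w`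
    have hws' : IsSeparable k w := by
      letI : Algebra k (Subring.center (D i)) := ((algebraMap k (D i)).codRestrict _ fun r =>
        Subring.mem_center_iff.2 fun g => (Algebra.commutes r g).symm).toAlgebra
      haveI : IsScalarTower k (Subring.center (D i)) (D i) := IsScalarTower.of_algebraMap_eq fun _ => rfl
      haveI : Algebra.IsSeparable k (Subring.center (D i)) := ⟨fun c => by
        have h := hKsep (c : D i) (Subalgebra.mem_center_iff.2 (Subring.mem_center_iff.1 c.2))
        show (minpoly k c).Separable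
        rw [← minpoly.algHom_eq (IsScalarTower.toAlgHom k (Subring.center (D i)) (D i)) Subtype.val_injective]
        exact h⟩
      let E := Algebra.adjoin (Subring.center (D i)) ({w} : Set (D i))
      letI : CommRing E := Algebra.adjoinCommRingOfComm _ (by
        intro p hp q hq; rw [Set.mem_singleton_iff.1 hp, Set.mem_singleton_iff.1 hq])
      haveI : IsDomain E := inferInstance
      have hwi : IsIntegral (Subring.center (D i)) w := hws.isIntegral
      haveI : Module.Finite (Subring.center (D i)) E := Module.Finite.iff_fg.2 (IsIntegral.fg_adjoin_singleton hwi)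
      letI : Field E := fieldOfFiniteDimensional (Subring.center (D i)) E
      let wE : E := ⟨w, Algebra.subset_adjoin rfl⟩
      have hwE : IsSeparable (Subring.center (D i)) wE := by
        show (minpoly _ wE).Separable
        rw [← minpoly.algHom_eq E.val Subtype.val_injective]
        exact hws
      have hres := IsSeparable.of_algebra_isSeparable_of_isSeparable k hwE
      show (minpoly k w).Separable
      rw [show w = (E.val.restrictScalars k) wE from rfl]
      rw [minpoly.algHom_eq (E.val.restrictScalars k) (fun p q h => Subtype.ext h) wE]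
      exact hres
    have hw0 : w ≠ 0 := fun h => hw (h ▸ Subring.zero_mem _)
    have hirr := minpoly.irreducible (IsIntegral.of_finite k w)
    have h0 : (minpoly k w).coeff 0 ≠ 0 := fun h => hw0 (by
      have := minpoly.coeff_zero_eq_zero (IsIntegral.of_finite k w)
      exact this.1 h)
    have hsc := hlift i (sc w) (minpoly k w) (by
      refine (hws' : (minpoly k w).Separable).mul separable_X ?_
      exact ((Polynomial.irreducible_X).coprime_iff_not_dvd.2 (fun h => h0 (X_dvd_iff.1 h))).symm) (by
        rw [map_mul, aeval_algHom_apply, minpoly.aeval, map_zero, zero_mul])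
    refine hw (Subring.mem_center_iff.2 fun g => hscinj ?_)
    rw [map_mul, map_mul]
    exact (hsc (sc g)).symm
  have hall : ∀ (i : Fin n) (M M' : Matrix (Fin (d i)) (Fin (d i)) (D i)), M * M' = M' * M := by
    intro i M M'
    haveI : Subsingleton (Fin (d i)) := by
      refine ⟨fun a b => ?_⟩
      by_contra hab
      have h := congrFun (congrFun (hidem i (Matrix.single a a 1) (by simp) (Matrix.single a b 1)) a) b
      simp [Ne.symm hab, hab] at h
    ext a b
    rw [Matrix.mul_apply, Matrix.mul_apply, Fintype.sum_subsingleton _ a, Fintype.sum_subsingleton _ a,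
      Subsingleton.elim b a, hdiv i]
  have hsep : IsSeparable k (⟨c, hc'⟩ : C) := hsepc _ fun b => e.injective (by
    rw [map_mul, map_mul]; exact funext fun i => hall i _ _)
  refine mem_of_maximal L hc hmax c (fun l hl => ((Subalgebra.mem_centralizer_iff k).1 hc') l hl) ?_
  show (minpoly k c).Separable
  rw [show c = ((⟨c, hc'⟩ : C) : A) from rfl, hmin]
  exact hsep

end Groth.Agent.EtSub16
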